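import Cfsg.Prelude.Def_Solvable
import Mathlib.GroupTheory.Sylow
import Mathlib.GroupTheory.Frattini
import Mathlib.GroupTheory.Complement
import Mathlib.GroupTheory.QuotientGroup.Basic

/-!
# The Fitting subgroup and the Frattini subgroup of a finite group
-/

set_option autoImplicit false

open Subgroup
open scoped commutatorElement

namespace Cfsg.Agent.Fitting

variable {G : Type*} [Group G]

/-! ### General lemmas -/

/-- A characteristic subgroup of a normal subgroup is normal, in `map` form. -/
lemma normal_map_subtype_of_characteristic {N : Subgroup G} [N.Normal] (K : Subgroup N)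
    [K.Characteristic] : (K.map N.subtype).Normal := inferInstance

/-- A set of subgroups invariant under all automorphisms has characteristic join. -/
lemma sSup_characteristic {S : Set (Subgroup G)}
    (hS : ∀ (φ : G ≃* G), ∀ N ∈ S, N.map φ.toMonoidHom ∈ S) : (sSup S).Characteristic := by
  rw [characteristic_iff_map_le]
  intro φ
  rw [map_le_iff_le_comap, sSup_le_iff]
  exact fun N hN => map_le_iff_le_comap.mp (le_sSup (hS φ N hN))

/-- The modular law of Dedekind: for `H ≤ K`, `(H ⊔ N) ⊓ K = H ⊔ (N ⊓ K)` when `N` is normal. -/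
lemma sup_inf_assoc_of_normal {H K : Subgroup G} (N : Subgroup G) [N.Normal] (hHK : H ≤ K) :
    (H ⊔ N) ⊓ K = H ⊔ (N ⊓ K) := by
  refine le_antisymm ?_ (sup_le (le_inf le_sup_left hHK) (inf_le_inf_right _ le_sup_right))
  rintro x ⟨hx, hxK⟩
  obtain ⟨h, hh, n, hn, rfl⟩ := mem_sup_of_normal_right.mp hx
  exact mul_mem_sup hh ⟨hn, (mul_mem_cancel_left (hHK hh)).mp hxK⟩

/-! ### `O_p(G)` -/

lemma pCore_normal (p : ℕ) : (Cfsg.pCore p G).Normal := Subgroup.sSup_normal _ fun _ h => h.1

instance pCore_normal_inst (p : ℕ) : (Cfsg.pCore p G).Normal := pCore_normal p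

instance pCore_characteristic (p : ℕ) : (Cfsg.pCore p G).Characteristic :=
  sSup_characteristic fun φ _ hN => ⟨hN.1.map _ φ.surjective, hN.2.map _⟩

lemma le_pCore {p : ℕ} {N : Subgroup G} (hN : N.Normal) (hp : IsPGroup p N) :
    N ≤ Cfsg.pCore p G := le_sSup ⟨hN, hp⟩

lemma pCore_isPGroup (p : ℕ) : IsPGroup p (Cfsg.pCore p G) :=
  Sylow.sSup_of_normal _ (fun _ h => h.2) (fun _ h => h.1)

lemma pCore_le_sylow {p : ℕ} (P : Sylow p G) : Cfsg.pCore p G ≤ P :=
  IsPGroup.le_sylow_of_normal (pCore_isPGroup p) P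

/-! ### The Fitting subgroup -/

lemma fitting_normal : (Cfsg.fittingSubgroup G).Normal := Subgroup.sSup_normal _ fun _ h => h.1

instance fitting_normal_inst : (Cfsg.fittingSubgroup G).Normal := fitting_normal

lemma isNilpotent_map {H : Type*} [Group H] (f : G →* H) {N : Subgroup G}
    (hN : Group.IsNilpotent N) : Group.IsNilpotent (N.map f) :=
  Group.nilpotent_of_surjective (f.subgroupMap N) (f.subgroupMap_surjective N)

lemma isNilpotent_of_le {H K : Subgroup G} (hK : Group.IsNilpotent K) (hHK : H ≤ K) :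
    Group.IsNilpotent H :=
  Group.nilpotent_of_mulEquiv (Subgroup.subgroupOfEquivOfLe hHK)

instance fitting_characteristic : (Cfsg.fittingSubgroup G).Characteristic :=
  sSup_characteristic fun φ _ hN => ⟨hN.1.map _ φ.surjective, isNilpotent_map _ hN.2⟩

lemma le_fitting {N : Subgroup G} (hN : N.Normal) (hnil : Group.IsNilpotent N) :
    N ≤ Cfsg.fittingSubgroup G := le_sSup ⟨hN, hnil⟩

variable [Finite G]

lemma pCore_le_fitting (p : ℕ) [Fact p.Prime] : Cfsg.pCore p G ≤ Cfsg.fittingSubgroup G :=
  le_fitting inferInstance (pCore_isPGroup p).isNilpotent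

/-- A normal nilpotent subgroup is contained in the join of the `p`-cores. -/
lemma le_iSup_pCore_of_isNilpotent {N : Subgroup G} (hN : N.Normal)
    (hnil : Group.IsNilpotent N) : N ≤ ⨆ p : Nat.Primes, Cfsg.pCore (p : ℕ) G := by
  have hle : ∀ p : Nat.Primes, ∀ P : Sylow (p : ℕ) N,
      (P : Subgroup N).map N.subtype ≤ Cfsg.pCore (p : ℕ) G := by
    intro p P
    have : Fact (p : ℕ).Prime := ⟨p.2⟩
    have : (P : Subgroup N).Normal := inferInstance
    have := Sylow.characteristic_of_normal P this
    exact le_pCore inferInstance (P.isPGroup'.map _)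
  have hdvd : Nat.card N ∣
      Nat.card (((⨆ p : Nat.Primes, Cfsg.pCore (p : ℕ) G).subgroupOf N : Subgroup N)) := by
    refine (Nat.dvd_iff_prime_pow_dvd_dvd _ _).mpr fun q k hq hk => ?_
    have : Fact q.Prime := ⟨hq⟩
    obtain ⟨P⟩ : Nonempty (Sylow q N) := inferInstance
    refine (P.pow_dvd_card_of_pow_dvd_card hk).trans (card_dvd_of_le ?_)
    intro x hx
    exact le_iSup (fun p : Nat.Primes => Cfsg.pCore (p : ℕ) G) ⟨q, hq⟩
      (hle ⟨q, hq⟩ P (mem_map_of_mem _ hx))
  refine subgroupOf_eq_top.mp (eq_top_of_card_eq _ ?_)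
  exact Nat.dvd_antisymm (card_subgroup_dvd_card _) hdvd

lemma fitting_eq_iSup_pCore :
    Cfsg.fittingSubgroup G = ⨆ p : Nat.Primes, Cfsg.pCore (p : ℕ) G := by
  refine le_antisymm (sSup_le fun N hN => le_iSup_pCore_of_isNilpotent hN.1 hN.2) ?_
  refine iSup_le fun p => ?_
  have : Fact (p : ℕ).Prime := ⟨p.2⟩
  exact pCore_le_fitting _

omit [Finite G] in
/-- The `p`-cores for different primes commute elementwise. -/
lemma pCore_commute {p q : ℕ} [Fact p.Prime] [Fact q.Prime] (hpq : p ≠ q) {x y : G}
    (hx : x ∈ Cfsg.pCore p G) (hy : y ∈ Cfsg.pCore q G) : Commute x y :=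
  commute_of_normal_of_disjoint _ _ inferInstance inferInstance
    (IsPGroup.disjoint_of_ne p q hpq _ _ (pCore_isPGroup p) (pCore_isPGroup q)) x y hx hy

omit [Finite G] in
/-- A finite product of pairwise commuting nilpotent subgroups is nilpotent. -/
lemma isNilpotent_iSup_of_commute {ι : Type*} [Finite ι] (H : ι → Subgroup G)
    (hcomm : Pairwise fun i j => ∀ x y : G, x ∈ H i → y ∈ H j → Commute x y)
    (hH : ∀ i, Group.IsNilpotent (H i)) : Group.IsNilpotent ↥(⨆ i, H i) := by
  cases nonempty_fintype ι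
  have : ∀ i, Group.IsNilpotent (H i) := hH
  rw [← noncommPiCoprod_range (hcomm := hcomm)]
  exact Group.nilpotent_of_surjective _ (MonoidHom.rangeRestrict_surjective _)

/-- The Fitting subgroup of a finite group is nilpotent (Fitting's theorem). -/
theorem fitting_isNilpotent : Group.IsNilpotent (Cfsg.fittingSubgroup G) := by
  classical
  let ι := {p : ℕ // p ∈ (Nat.card G).primeFactors}
  have hι : ∀ p : ι, Fact (p : ℕ).Prime := fun p => ⟨Nat.prime_of_mem_primeFactors p.2⟩
  have hnil : Group.IsNilpotent ↥(⨆ p : ι, Cfsg.pCore (p : ℕ) G) := by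
    refine isNilpotent_iSup_of_commute _ (fun p q hpq x y hx hy => ?_) fun p => ?_
    · have := hι p; have := hι q
      exact pCore_commute (fun h => hpq (Subtype.ext h)) hx hy
    · have := hι p; exact (pCore_isPGroup _).isNilpotent
  refine isNilpotent_of_le hnil ?_
  rw [fitting_eq_iSup_pCore]
  refine iSup_le fun p => ?_
  by_cases hp : (p : ℕ) ∣ Nat.card G
  · exact le_iSup (fun p : ι => Cfsg.pCore (p : ℕ) G)
      ⟨p, Nat.mem_primeFactors.mpr ⟨p.2, hp, Nat.card_pos.ne'⟩⟩
  · have : Fact (p : ℕ).Prime := ⟨p.2⟩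
    refine le_of_eq_of_le ((Cfsg.pCore (p : ℕ) G).eq_bot_of_card_eq ?_) bot_le
    exact (pCore_isPGroup _).card_eq_or_dvd.resolve_right
      fun h => hp (h.trans (card_subgroup_dvd_card _))

/-- The join of two normal nilpotent subgroups of a finite group is nilpotent. -/
theorem isNilpotent_sup_of_normal {M N : Subgroup G} (hM : M.Normal) (hN : N.Normal)
    (hMn : Group.IsNilpotent M) (hNn : Group.IsNilpotent N) :
    Group.IsNilpotent ↥(M ⊔ N) :=
  isNilpotent_of_le fitting_isNilpotent (sup_le (le_fitting hM hMn) (le_fitting hN hNn))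

lemma le_fitting_iff {N : Subgroup G} (hN : N.Normal) :
    N ≤ Cfsg.fittingSubgroup G ↔ Group.IsNilpotent N :=
  ⟨fun h => isNilpotent_of_le fitting_isNilpotent h, le_fitting hN⟩

lemma fitting_eq_top_iff : Cfsg.fittingSubgroup G = ⊤ ↔ Group.IsNilpotent G := by
  rw [← top_le_iff, le_fitting_iff inferInstance, Group.isNilpotent_top]

/-- The intersection of a normal subgroup with the Fitting subgroup is its Fitting subgroup. -/
theorem map_fitting (N : Subgroup G) [N.Normal] :
    (Cfsg.fittingSubgroup N).map N.subtype = N ⊓ Cfsg.fittingSubgroup G := by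
  refine le_antisymm (le_inf (map_subtype_le _) (le_fitting inferInstance
    (isNilpotent_map _ fitting_isNilpotent))) fun x hx => ?_
  refine ⟨⟨x, hx.1⟩, ?_, rfl⟩
  have h : (Cfsg.fittingSubgroup G).subgroupOf N ≤ Cfsg.fittingSubgroup N := by
    refine le_fitting inferInstance ?_
    have := isNilpotent_of_le (fitting_isNilpotent (G := G))
      (inf_le_right : N ⊓ Cfsg.fittingSubgroup G ≤ _)
    refine Group.nilpotent_of_mulEquiv (G := ↥(N ⊓ Cfsg.fittingSubgroup G)) ?_
    exact (MulEquiv.subgroupCongr (subgroupOf_map_subtype _ N).symm |>.trans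
      ((Subgroup.equivMapOfInjective _ N.subtype N.subtype_injective).symm)).trans
      (MulEquiv.refl _) |> fun e => (MulEquiv.subgroupCongr (inf_comm _ _)).trans e
  exact h hx.2

/-- The image of the Fitting subgroup under an epimorphism lies in the Fitting subgroup. -/
theorem map_fitting_le {H : Type*} [Group H] (f : G →* H) (hf : Function.Surjective f) :
    (Cfsg.fittingSubgroup G).map f ≤ Cfsg.fittingSubgroup H :=
  le_fitting (fitting_normal.map _ hf) (isNilpotent_map _ fitting_isNilpotent)

/-! ### The Frattini subgroup -/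

theorem frattini_le_fitting : frattini G ≤ Cfsg.fittingSubgroup G :=
  le_fitting inferInstance frattini_nilpotent

/-- A subgroup that supplements a subgroup of the Frattini subgroup is everything. -/
lemma eq_top_of_sup_eq_top_of_le_frattini {K B : Subgroup G} (hB : B ≤ frattini G)
    (h : K ⊔ B = ⊤) : K = ⊤ :=
  frattini_nongenerating (top_le_iff.mp (h.ge.trans (sup_le_sup_left hB _)))

/-- For `N` normal in a finite `G`, the Frattini subgroup of `N` lies in that of `G`. -/
theorem frattini_map_le (N : Subgroup G) [N.Normal] :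
    (frattini N).map N.subtype ≤ frattini G := by
  refine le_iInf₂ fun M hM => ?_
  by_contra h
  have hF : ((frattini N).map N.subtype).Normal := inferInstance
  have htop : M ⊔ (frattini N).map N.subtype = ⊤ :=
    hM.2 _ (left_lt_sup.mpr h)
  have hN : M.subgroupOf N ⊔ frattini N = ⊤ := by
    refine map_injective N.subtype_injective ?_
    rw [Subgroup.map_sup, subgroupOf_map_subtype, ← MonoidHom.range_eq_map, range_subtype]
    refine le_antisymm (sup_le inf_le_right (map_subtype_le _)) fun x hx => ?_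
    obtain ⟨m, hm, f, hf, rfl⟩ := mem_sup_of_normal_right.mp (htop.ge (mem_top x))
    exact mul_mem_sup ⟨hm, (mul_mem_cancel_right (map_subtype_le _ hf)).mp hx⟩ hf
  have := subgroupOf_eq_top.mp (frattini_nongenerating hN)
  exact h ((map_subtype_le _).trans this)

/-- If `B ≤ Φ(G)` and `A/B` is nilpotent with `A`, `B` normal, then `A` is nilpotent. -/
theorem isNilpotent_of_quotient_le_frattini (A B : Subgroup G) [A.Normal] [B.Normal]
    (hB : B ≤ frattini G) (h : Group.IsNilpotent (↥A ⧸ B.subgroupOf A)) :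
    Group.IsNilpotent A := by
  refine ((Group.isNilpotent_of_finite_tfae (G := A)).out 0 3).mpr ?_
  intro p hp P
  have hsurj := QuotientGroup.mk'_surjective (B.subgroupOf A)
  let Q := P.mapSurjective hsurj
  have : (Q : Subgroup (↥A ⧸ B.subgroupOf A)).Normal := inferInstance
  have hQc : (Q : Subgroup (↥A ⧸ B.subgroupOf A)).Characteristic :=
    Sylow.characteristic_of_normal Q this
  -- the preimage of `Q` in `A` is characteristic modulo `B`, hence normal in `G`
  let K : Subgroup A := (Q : Subgroup (↥A ⧸ B.subgroupOf A)).comap (QuotientGroup.mk' (B.subgroupOf A))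
  let KG : Subgroup G := K.map A.subtype
  have hKG : KG.Normal := by
    refine ⟨fun x hx g => ?_⟩
    obtain ⟨a, ha, rfl⟩ := hx
    let c : A ≃* A := MulAut.conjNormal g
    have hc : (B.subgroupOf A).map c.toMonoidHom = B.subgroupOf A := by
      ext y
      constructor
      · rintro ⟨z, hz, rfl⟩
        exact Subgroup.Normal.conj_mem inferInstance (z : G) hz g
      · intro hy
        refine ⟨c.symm y, ?_, c.apply_symm_apply y⟩
        show ((c.symm y : A) : G) ∈ B
        have : ((c.symm y : A) : G) = g⁻¹ * y * g := MulAut.conjNormal_symm_apply g y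
        rw [this]
        simpa using Subgroup.Normal.conj_mem inferInstance (y : G) hy g⁻¹
    refine ⟨c a, ?_, MulAut.conjNormal_apply g a⟩
    have hmap : (Q : Subgroup (↥A ⧸ B.subgroupOf A)).map
        (QuotientGroup.congr _ _ c hc).toMonoidHom = Q :=
      characteristic_iff_map_eq.mp hQc _
    show QuotientGroup.mk (c a) ∈ (Q : Subgroup (↥A ⧸ B.subgroupOf A))
    rw [← hmap]
    exact ⟨QuotientGroup.mk a, ha, rfl⟩
  have hPK : (P : Subgroup A) ≤ K := fun x hx => mem_map_of_mem _ hx
  -- Frattini argument inside the preimage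
  let PK : Sylow p K := P.subtype hPK
  let e : K ≃* KG := Subgroup.equivMapOfInjective _ A.subtype A.subtype_injective
  let PKG : Sylow p KG := PK.mapSurjective (f := e.toMonoidHom) e.surjective
  have hfr := Sylow.normalizer_sup_eq_top PKG
  have hPG : ((PKG : Subgroup KG).map KG.subtype) = (P : Subgroup A).map A.subtype := by
    ext x
    constructor
    · rintro ⟨y, ⟨z, hz, rfl⟩, rfl⟩
      exact ⟨(z : A), hz, rfl⟩
    · rintro ⟨y, hy, rfl⟩
      exact ⟨e ⟨y, hPK hy⟩, ⟨⟨y, hPK hy⟩, hy, rfl⟩, rfl⟩
  rw [hPG] at hfr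
  have hKG' : KG ≤ ((P : Subgroup A).map A.subtype) ⊔ B := by
    rintro x ⟨k, hk, rfl⟩
    obtain ⟨y, hy, hyk⟩ : QuotientGroup.mk k ∈ (P : Subgroup A).map
      (QuotientGroup.mk' (B.subgroupOf A)) := hk
    have : y⁻¹ * k ∈ B.subgroupOf A := QuotientGroup.eq.mp hyk
    have h2 := mul_mem_sup (mem_map_of_mem A.subtype hy) (T := B) this
    simpa using h2
  have htop : Subgroup.normalizer (((P : Subgroup A).map A.subtype : Subgroup G) : Set G) = ⊤ := by
    refine eq_top_of_sup_eq_top_of_le_frattini hB (top_le_iff.mp (hfr.ge.trans ?_))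
    refine sup_le le_sup_left (hKG'.trans (sup_le ?_ le_sup_right))
    exact le_normalizer.trans le_sup_left
  have : ((P : Subgroup A).map A.subtype).Normal := normalizer_eq_top_iff.mp htop
  exact this.of_map_subtype

/-- `G/Φ(G)` nilpotent implies `G` nilpotent. -/
theorem isNilpotent_of_quotient_frattini (h : Group.IsNilpotent (G ⧸ frattini G)) :
    Group.IsNilpotent G := by
  rw [← Group.isNilpotent_top]
  refine isNilpotent_of_quotient_le_frattini ⊤ (frattini G) le_rfl ?_
  let e : (⊤ : Subgroup G) ≃* G := Subgroup.topEquiv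
  refine Group.nilpotent_of_mulEquiv (G := G ⧸ frattini G) (_h := h) ?_
  refine (QuotientGroup.congr _ _ e.symm ?_)
  ext x
  constructor
  · rintro ⟨y, hy, rfl⟩; exact hy
  · intro hx; exact ⟨x, hx, Subtype.ext rfl⟩

/-- An abelian normal subgroup meeting `Φ(G)` trivially has a complement. -/
theorem exists_complement_of_inf_frattini_eq_bot (A : Subgroup G) [A.Normal] [IsMulCommutative A]
    (hA : A ⊓ frattini G = ⊥) : ∃ H : Subgroup G, Subgroup.IsComplement' A H := by
  obtain ⟨H, hH⟩ := exists_minimal_of_wellFoundedLT (fun H : Subgroup G => H ⊔ A = ⊤) ⟨⊤, by simp⟩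
  refine ⟨H, ?_⟩
  have hAH : (A ⊓ H).Normal := by
    rw [← normalizer_eq_top_iff, eq_top_iff, ← hH.1, sup_le_iff]
    constructor
    · intro h hh
      rw [mem_normalizer_iff]
      intro x
      simp only [mem_inf]
      rw [mul_mem_cancel_right (inv_mem hh), mul_mem_cancel_left hh]
      refine and_congr_left fun _ => ⟨fun hx => Subgroup.Normal.conj_mem inferInstance x hx h,
        fun hx => ?_⟩
      simpa [mul_assoc] using Subgroup.Normal.conj_mem inferInstance _ hx h⁻¹
    · intro a ha
      rw [mem_normalizer_iff]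
      intro x
      simp only [mem_inf]
      have hc : ∀ y ∈ A, a * y * a⁻¹ = y := fun y hy => by
        have := congrArg Subtype.val (mul_comm' (⟨a, ha⟩ : A) ⟨y, hy⟩)
        simp only [coe_mul] at this
        rw [this, mul_inv_cancel_right]
      constructor
      · intro hx
        rwa [hc x hx.1]
      · intro hx
        have hxA : x ∈ A := by
          simpa [mul_assoc] using Subgroup.Normal.conj_mem inferInstance _ hx.1 a⁻¹
        rwa [hc x hxA] at hx
  have hbot : A ⊓ H = ⊥ := by
    rw [eq_bot_iff, ← hA]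
    refine le_inf inf_le_left (le_iInf₂ fun M hM => ?_)
    by_contra h
    have htop : M ⊔ (A ⊓ H) = ⊤ := hM.2 _ (left_lt_sup.mpr h)
    have h2 : H ≤ M ⊓ H ⊔ A := by
      intro x hx
      obtain ⟨m, hm, d, hd, rfl⟩ := mem_sup_of_normal_right.mp (htop.ge (mem_top x))
      exact mul_mem_sup ⟨hm, (mul_mem_cancel_right (show d ∈ H from hd.2)).mp hx⟩ hd.1
    have h3 : M ⊓ H ⊔ A = ⊤ :=
      top_le_iff.mp (hH.1.ge.trans (sup_le h2 le_sup_right))
    exact h (inf_le_right.trans ((hH.2 h3 inf_le_right).trans inf_le_left))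
  exact isComplement'_of_disjoint_and_mul_eq_univ (disjoint_iff.mpr hbot)
    (by rw [← normal_mul, sup_comm, hH.1, coe_top])

end Cfsg.Agent.Fitting
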