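import Cfsg.Agent.Lib.Thompson.PSolvable
import Cfsg.Agent.Lib.Involution.BaerSuzuki
import Cfsg.Agent.LocalEven62.GlaubWC.Transvection
import Cfsg.Agent.Class49.CharTwo
import Cfsg.Agent.LocalEven62.Frattini

/-!
A cyclic normal subgroup of a Sylow `p`-subgroup lies in `O_p` of a `p`-constrained group
(`p` odd, or `p = 2` and no section `S₄`).
-/

set_option autoImplicit false

namespace Cfsg.Agent.CyclicNormalSylow

open Subgroup

variable {G : Type*} [Group G] [Finite G] {p : ℕ} [Fact p.Prime]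

/-- The elements stabilizing a short series of `W`. -/
def Chain (W N1 N2 : Subgroup G) (x : G) : Prop :=
  (∀ u ∈ N1, x * u * x⁻¹ = u) ∧ (∀ u ∈ N2, ∃ c ∈ N1, x * u * x⁻¹ = u * c) ∧
    ∀ v ∈ W, ∃ d ∈ N2, x * v * x⁻¹ = v * d

theorem isPGroup_closure_chain (hp : p ≠ 2) (W N1 N2 : Subgroup G) (h12 : N1 ≤ N2) (h2W : N2 ≤ W)
    (hel : ∀ v ∈ W, v ^ p = 1) (hcent : centralizer (W : Set G) ≤ W)
    (hab : ∀ u ∈ W, ∀ v ∈ W, u * v = v * u) (s : Set G) (hs : ∀ x ∈ s, Chain W N1 N2 x) :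
    IsPGroup p (closure s) := by
  have hone : Chain W N1 N2 (1 : G) :=
    ⟨fun u _ => by group, fun u _ => ⟨1, one_mem _, by group⟩, fun u _ => ⟨1, one_mem _, by group⟩⟩
  have hmul : ∀ x y : G, Chain W N1 N2 x → Chain W N1 N2 y → Chain W N1 N2 (x * y) := by
    intro x y hx hy
    refine ⟨fun u hu => ?_, fun u hu => ?_, fun v hv => ?_⟩
    · calc x * y * u * (x * y)⁻¹ = x * (y * u * y⁻¹) * x⁻¹ := by group
        _ = u := by rw [hy.1 u hu, hx.1 u hu]
    · obtain ⟨c, hc, e1⟩ := hy.2.1 u hu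
      obtain ⟨c', hc', e2⟩ := hx.2.1 u hu
      refine ⟨c' * c, mul_mem hc' hc, ?_⟩
      calc x * y * u * (x * y)⁻¹ = x * (y * u * y⁻¹) * x⁻¹ := by group
        _ = (x * u * x⁻¹) * (x * c * x⁻¹) := by rw [e1]; group
        _ = u * (c' * c) := by rw [e2, hx.1 c hc]; group
    · obtain ⟨d, hd, e1⟩ := hy.2.2 v hv
      obtain ⟨d', hd', e2⟩ := hx.2.2 v hv
      obtain ⟨c, hc, e3⟩ := hx.2.1 d hd
      refine ⟨d' * (d * c), mul_mem hd' (mul_mem hd (h12 hc)), ?_⟩
      calc x * y * v * (x * y)⁻¹ = x * (y * v * y⁻¹) * x⁻¹ := by group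
        _ = (x * v * x⁻¹) * (x * d * x⁻¹) := by rw [e1]; group
        _ = v * (d' * (d * c)) := by rw [e2, e3]; group
  have hall : ∀ x ∈ closure s, Chain W N1 N2 x := by
    intro x hx
    induction hx using closure_induction with
    | mem x hx => exact hs x hx
    | one => exact hone
    | mul x y _ _ hx hy => exact hmul x y hx hy
    | inv x _ hx =>
      have hpow : ∀ n : ℕ, Chain W N1 N2 (x ^ n) := fun n => by
        induction n with
        | zero => rw [pow_zero]; exact hone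
        | succ n ih => rw [pow_succ]; exact hmul _ _ ih hx
      have h1 : x ^ (orderOf x - 1) = x⁻¹ := by
        rw [eq_inv_iff_mul_eq_one, ← pow_succ, Nat.sub_add_cancel (orderOf_pos x),
          pow_orderOf_eq_one]
      exact h1 ▸ hpow _
  rintro ⟨x, hx⟩
  obtain ⟨h1, h2, h3⟩ := hall x hx
  refine ⟨2, Subtype.ext ?_⟩
  have hxp : x ^ p ∈ W := by
    refine hcent (mem_centralizer_iff.mpr fun v hv => ?_)
    obtain ⟨d, hd, e1⟩ := h3 v hv
    obtain ⟨c, hc, e2⟩ := h2 d hd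
    have hdc : Commute d c := hab d (h2W hd) c (h2W (h12 hc))
    have key : ∀ n : ℕ, x ^ n * v * (x ^ n)⁻¹ = v * d ^ n * c ^ (n.choose 2) := by
      intro n
      induction n with
      | zero => simp
      | succ n ih =>
        calc x ^ (n + 1) * v * (x ^ (n + 1))⁻¹ = x * (x ^ n * v * (x ^ n)⁻¹) * x⁻¹ := by
              rw [pow_succ']; group
          _ = (x * v * x⁻¹) * (x * d * x⁻¹) ^ n * (x * c * x⁻¹) ^ (n.choose 2) := by
              rw [ih, conj_pow, conj_pow]; group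
          _ = v * d * (d ^ n * c ^ n) * c ^ (n.choose 2) := by
              rw [e1, e2, h1 c hc, hdc.mul_pow]
          _ = v * d ^ (n + 1) * c ^ ((n + 1).choose 2) := by
              rw [show (n + 1).choose 2 = n + n.choose 2 by
                rw [Nat.choose_succ_succ' n 1, Nat.choose_one_right], pow_add c, pow_succ' d]
              simp only [mul_assoc]
    have hp2 : p ∣ p.choose 2 := (Fact.out : p.Prime).dvd_choose_self two_ne_zero
      (lt_of_le_of_ne (Fact.out : p.Prime).two_le (Ne.symm hp))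
    obtain ⟨q, hq⟩ := hp2
    have := key p
    rw [hel d (h2W hd), hq, pow_mul, hel c (h2W (h12 hc)), one_pow, mul_one, mul_one] at this
    exact (mul_inv_eq_iff_eq_mul.mp this).symm
  rw [SubgroupClass.coe_pow, OneMemClass.coe_one, pow_two, pow_mul]
  exact hel _ hxp

/-- The odd case in the reduced situation. -/
theorem odd_core (hp : p ≠ 2) (W : Subgroup G) [W.Normal]
    (hel : ∀ v ∈ W, v ^ p = 1) (hab : ∀ u ∈ W, ∀ v ∈ W, u * v = v * u)
    (hcent : centralizer (W : Set G) ≤ W)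
    (hO : ∀ N : Subgroup G, N.Normal → IsPGroup p N → N ≤ W)
    {a : G} (haW : a ∉ W) (hw : a ^ p ∈ W)
    (hact : ∀ v ∈ W, ∃ i : ℕ, a * v * a⁻¹ = v * (a ^ p) ^ i) : False := by
  classical
  have hpp : p.Prime := Fact.out
  set w := a ^ p with hwdef
  have hcj : ∀ (g : G), ∀ u ∈ W, g * u * g⁻¹ ∈ W :=
    fun g u hu => (inferInstance : W.Normal).conj_mem u hu g
  have hw1 : w ≠ 1 := by
    intro h1
    refine haW (hcent (mem_centralizer_iff.mpr fun v hv => ?_))
    obtain ⟨i, hi⟩ := hact v hv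
    rw [h1, one_pow, mul_one] at hi
    exact (mul_inv_eq_iff_eq_mul.mp hi).symm
  obtain ⟨g, hg⟩ : ∃ g : G, ¬ IsPGroup p (closure ({a, g * a * g⁻¹} : Set G)) := by
    by_contra! hall
    obtain ⟨N, hN, hNp, haN⟩ := Involution.baerSuzuki a hall
    exact haW (hO N hN hNp haN)
  set b := g * a * g⁻¹ with hb
  set w' := g * w * g⁻¹ with hw'
  have hbp : b ^ p = w' := by rw [hb, conj_pow]
  clear_value b w' w
  have hw'W : w' ∈ W := hw' ▸ hcj g w hw
  have hactb : ∀ v ∈ W, ∃ j : ℕ, b * v * b⁻¹ = v * w' ^ j := by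
    intro v hv
    obtain ⟨j, hj⟩ := hact (g⁻¹ * v * g) (by simpa using hcj g⁻¹ v hv)
    refine ⟨j, ?_⟩
    calc b * v * b⁻¹ = g * (a * (g⁻¹ * v * g) * a⁻¹) * g⁻¹ := by rw [hb]; group
      _ = v * w' ^ j := by rw [hj, hw', conj_pow]; group
  have haw : a * w * a⁻¹ = w := by rw [hwdef, ← pow_succ', pow_succ, mul_inv_cancel_right]
  have hbw : b * w' * b⁻¹ = w' := by rw [← hbp, ← pow_succ', pow_succ, mul_inv_cancel_right]
  -- neither fixes the other centre
  have hnoncomm : ∀ (a b w w' : G), w ∈ W → w' ∈ W → a * w * a⁻¹ = w → b * w' * b⁻¹ = w' →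
      a * w' * a⁻¹ = w' →
      (∀ v ∈ W, ∃ i : ℕ, a * v * a⁻¹ = v * w ^ i) → (∀ v ∈ W, ∃ i : ℕ, b * v * b⁻¹ = v * w' ^ i) →
      IsPGroup p (closure ({a, b} : Set G)) := by
    intro a b w w' hwW hw'W haw hbw haw' hA hB
    refine isPGroup_closure_chain hp W (zpowers w') (zpowers w ⊔ zpowers w') le_sup_right
      (sup_le (zpowers_le.mpr hwW) (zpowers_le.mpr hw'W)) hel hcent hab _ ?_
    have hfix : ∀ x y : G, x * y * x⁻¹ = y → ∀ u ∈ zpowers y, x * u * x⁻¹ = u := by
      rintro x y h _ ⟨i, rfl⟩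
      change x * y ^ i * x⁻¹ = y ^ i
      rw [← conj_zpow, h]
    rintro x (rfl | rfl)
    · refine ⟨hfix x w' haw', fun u hu => ⟨1, one_mem _, ?_⟩, fun v hv => ?_⟩
      · rw [mul_one]
        have : zpowers w ⊔ zpowers w' ≤ centralizer {x} := by
          refine sup_le (zpowers_le.mpr ?_) (zpowers_le.mpr ?_) <;>
            rw [mem_centralizer_singleton_iff]
          · exact (mul_inv_eq_iff_eq_mul.mp haw).symm
          · exact (mul_inv_eq_iff_eq_mul.mp haw').symm
        rw [← mem_centralizer_singleton_iff.mp (this hu), mul_inv_cancel_right]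
      · obtain ⟨i, hi⟩ := hA v hv
        exact ⟨w ^ i, mem_sup_left (pow_mem (mem_zpowers w) i), hi⟩
    · refine ⟨hfix x w' hbw, fun u hu => ?_, fun v hv => ?_⟩
      · obtain ⟨i, hi⟩ := hB u (sup_le (zpowers_le.mpr hwW) (zpowers_le.mpr hw'W) hu)
        exact ⟨w' ^ i, pow_mem (mem_zpowers w') i, hi⟩
      · obtain ⟨i, hi⟩ := hB v hv
        exact ⟨w' ^ i, mem_sup_right (pow_mem (mem_zpowers w') i), hi⟩
  obtain ⟨i, hi⟩ := hact w' hw'W
  obtain ⟨j, hj⟩ := hactb w hw
  have hwi : w ^ i ≠ 1 := fun h1 =>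
    hg (hnoncomm a b w w' hw hw'W haw hbw (by rw [hi, h1, mul_one]) hact hactb)
  have hwj : w' ^ j ≠ 1 := fun h1 => hg (by
    have := hnoncomm b a w' w hw'W hw hbw haw (by rw [hj, h1, mul_one]) hactb hact
    rwa [Set.pair_comm] at this)
  have hordw : orderOf w = p := orderOf_eq_prime (hel w hw) hw1
  have hordw' : orderOf w' = p := by
    rw [hw', ← hordw]; exact MulEquiv.orderOf_eq (MulAut.conj g) w
  have hinvexp : ∀ (x : G) (i : ℕ), orderOf x = p → x ^ i ≠ 1 → ∃ m, (x ^ i) ^ m = x := by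
    intro x i hx hxi
    refine exists_pow_eq_self_of_coprime ?_
    rw [hx, Nat.coprime_comm, hpp.coprime_iff_not_dvd]
    exact fun hd => hxi (orderOf_dvd_iff_pow_eq_one.mp (hx ▸ hd))
  obtain ⟨m, hm⟩ := hinvexp w i hordw hwi
  obtain ⟨n, hn⟩ := hinvexp w' j hordw' hwj
  -- powers of a transvection
  have hpowa : ∀ (a w : G) (u : G) (i : ℕ), a * w * a⁻¹ = w → a * u * a⁻¹ = u * w ^ i →
      ∀ m : ℕ, a ^ m * u * (a ^ m)⁻¹ = u * (w ^ i) ^ m := by
    intro a w u i haw hu m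
    induction m with
    | zero => simp
    | succ m ih =>
      calc a ^ (m + 1) * u * (a ^ (m + 1))⁻¹ = a * (a ^ m * u * (a ^ m)⁻¹) * a⁻¹ := by
            rw [pow_succ']; group
        _ = (a * u * a⁻¹) * ((a * w * a⁻¹) ^ i) ^ m := by rw [ih, conj_pow, conj_pow]; group
        _ = u * (w ^ i) ^ (m + 1) := by rw [hu, haw, pow_succ']; group
  set c := a ^ m with hc
  set d := b ^ (n * (p - 1)) with hd
  have hcw : c * w * c⁻¹ = w := by
    simpa using hpowa a w w 0 haw (by simpa using haw) m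
  have hdw' : d * w' * d⁻¹ = w' := by
    simpa using hpowa b w' w' 0 hbw (by simpa using hbw) (n * (p - 1))
  have hcw' : c * w' * c⁻¹ = w' * w := by
    rw [hc, hpowa a w w' i haw hi, hm]
  have hdw : d * w * d⁻¹ = w * w'⁻¹ := by
    rw [hd, hpowa b w' w j hbw hj, pow_mul, hn]
    congr 1
    rw [eq_inv_iff_mul_eq_one, ← pow_succ, Nat.sub_add_cancel hpp.pos, hel w' hw'W]
  have hactc : ∀ v ∈ W, ∃ s : ℕ, c * v * c⁻¹ = v * w ^ s := fun v hv => by
    obtain ⟨s, hs⟩ := hact v hv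
    exact ⟨s * m, by rw [hc, hpowa a w v s haw hs, ← pow_mul]⟩
  have hactd : ∀ v ∈ W, ∃ s : ℕ, d * v * d⁻¹ = v * w' ^ s := fun v hv => by
    obtain ⟨s, hs⟩ := hactb v hv
    exact ⟨s * (n * (p - 1)), by rw [hd, hpowa b w' v s hbw hs, ← pow_mul]⟩
  have hww' : Commute w w' := hab w hw w' hw'W
  -- the central involution
  clear_value c d
  set z := c * d with hz
  have hzw : z * w * z⁻¹ = w'⁻¹ := by
    calc z * w * z⁻¹ = c * (d * w * d⁻¹) * c⁻¹ := by rw [hz]; group
      _ = (c * w * c⁻¹) * (c * w' * c⁻¹)⁻¹ := by rw [hdw]; group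
      _ = w * (w⁻¹ * w'⁻¹) := by rw [hcw, hcw', mul_inv_rev]
      _ = w'⁻¹ := by group
  have hzw' : z * w' * z⁻¹ = w' * w := by
    calc z * w' * z⁻¹ = c * (d * w' * d⁻¹) * c⁻¹ := by rw [hz]; group
      _ = w' * w := by rw [hdw', hcw']
  clear_value z
  set h := z * z * z with hh
  clear_value h
  have hhw : h * w * h⁻¹ = w⁻¹ := by
    calc h * w * h⁻¹ = z * (z * (z * w * z⁻¹) * z⁻¹) * z⁻¹ := by rw [hh]; group
      _ = z * (z * w' * z⁻¹)⁻¹ * z⁻¹ := by rw [hzw]; group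
      _ = (z * w * z⁻¹)⁻¹ * (z * w' * z⁻¹)⁻¹ := by conv_lhs => rw [hzw']
                                                   group
      _ = (w' * w * w'⁻¹)⁻¹ := by rw [hzw, hzw']; group
      _ = w⁻¹ := by rw [← hww'.eq, mul_inv_cancel_right]
  have hhw' : h * w' * h⁻¹ = w'⁻¹ := by
    calc h * w' * h⁻¹ = z * (z * (z * w' * z⁻¹) * z⁻¹) * z⁻¹ := by rw [hh]; group
      _ = z * ((z * w' * z⁻¹) * (z * w * z⁻¹)) * z⁻¹ := by conv_lhs => rw [hzw']
                                                           group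
      _ = z * (w' * w * w'⁻¹) * z⁻¹ := by rw [hzw', hzw]
      _ = z * w * z⁻¹ := by rw [← hww'.eq, mul_inv_cancel_right]
      _ = w'⁻¹ := hzw
  have hdec : ∀ v ∈ W, ∃ (x y : ℕ) (v0 : G), v0 ∈ W ∧ c * v0 * c⁻¹ = v0 ∧ d * v0 * d⁻¹ = v0 ∧
      v = v0 * (w ^ x * w' ^ y) := by
    intro v hv
    obtain ⟨s, hs⟩ := hactc v hv
    set v1 := v * (w' ^ s)⁻¹ with hv1
    have hv1W : v1 ∈ W := mul_mem hv (inv_mem (pow_mem hw'W s))
    clear_value v1
    obtain ⟨t, ht⟩ := hactd v1 hv1W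
    have hv1c : c * v1 * c⁻¹ = v1 := by
      calc c * v1 * c⁻¹ = (c * v * c⁻¹) * ((c * w' * c⁻¹) ^ s)⁻¹ := by
            rw [hv1, conj_pow]; group
        _ = v * w ^ s * (w' ^ s * w ^ s)⁻¹ := by rw [hs, hcw', hww'.symm.mul_pow]
        _ = v1 := by rw [hv1]; group
    refine ⟨t * (p - 1), s, v1 * w ^ t, mul_mem hv1W (pow_mem hw t), ?_, ?_, ?_⟩
    · calc c * (v1 * w ^ t) * c⁻¹ = (c * v1 * c⁻¹) * (c * w * c⁻¹) ^ t := by rw [conj_pow]; group
        _ = _ := by rw [hv1c, hcw]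
    · calc d * (v1 * w ^ t) * d⁻¹ = (d * v1 * d⁻¹) * (d * w * d⁻¹) ^ t := by rw [conj_pow]; group
        _ = v1 * w' ^ t * (w ^ t * (w' ^ t)⁻¹) := by
            rw [ht, hdw, hww'.inv_right.mul_pow, inv_pow]
        _ = v1 * (w' ^ t * w ^ t * (w' ^ t)⁻¹) := by group
        _ = _ := by rw [← (hww'.pow_pow t t).eq, mul_inv_cancel_right]
    · have h1 : w ^ t * w ^ (t * (p - 1)) = 1 := by
        rw [← pow_add, show t + t * (p - 1) = p * t by
          rw [← Nat.succ_pred_eq_of_pos hpp.pos]; simp; ring, pow_mul, hel w hw, one_pow]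
      calc v = v1 * w' ^ s := by rw [hv1, inv_mul_cancel_right]
        _ = v1 * (w ^ t * w ^ (t * (p - 1))) * w' ^ s := by rw [h1, mul_one]
        _ = _ := by group
  have hh0 : ∀ v0 : G, c * v0 * c⁻¹ = v0 → d * v0 * d⁻¹ = v0 → h * v0 * h⁻¹ = v0 := by
    intro v0 h1 h2
    have h3 : z * v0 * z⁻¹ = v0 := by
      calc z * v0 * z⁻¹ = c * (d * v0 * d⁻¹) * c⁻¹ := by rw [hz]; group
        _ = v0 := by rw [h2, h1]
    calc h * v0 * h⁻¹ = z * (z * (z * v0 * z⁻¹) * z⁻¹) * z⁻¹ := by rw [hh]; group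
      _ = v0 := by rw [h3, h3, h3]
  have hhh : h * h ∈ W := by
    refine hcent (mem_centralizer_iff.mpr fun v hv => ?_)
    obtain ⟨x, y, v0, -, e1, e2, rfl⟩ := hdec v hv
    refine (mul_inv_eq_iff_eq_mul.mp ?_).symm
    have e3 := hh0 v0 e1 e2
    calc h * h * (v0 * (w ^ x * w' ^ y)) * (h * h)⁻¹
        = h * ((h * v0 * h⁻¹) * ((h * w * h⁻¹) ^ x * (h * w' * h⁻¹) ^ y)) * h⁻¹ := by
          rw [conj_pow, conj_pow]; group
      _ = h * (v0 * ((w⁻¹) ^ x * (w'⁻¹) ^ y)) * h⁻¹ := by rw [e3, hhw, hhw']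
      _ = (h * v0 * h⁻¹) * (((h * w * h⁻¹) ^ x)⁻¹ * ((h * w' * h⁻¹) ^ y)⁻¹) := by
          rw [conj_pow, conj_pow, inv_pow, inv_pow]; group
      _ = v0 * (w ^ x * w' ^ y) := by rw [e3, hhw, hhw', inv_pow, inv_pow, inv_inv, inv_inv]
  set t := h ^ p with ht
  have htt : t * t = 1 := by
    rw [ht, ← pow_add, ← two_mul, pow_mul, pow_two, hel _ hhh]
  obtain ⟨k, hk⟩ : ∃ k, p = 2 * k + 1 := hpp.odd_of_ne_two hp
  have htv : ∀ v ∈ W, t * v * t⁻¹ = h * v * h⁻¹ := by
    intro v hv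
    have h2 : t = h * (h * h) ^ k := by rw [ht, hk, pow_succ', pow_mul, pow_two]
    rw [h2]
    calc h * (h * h) ^ k * v * (h * (h * h) ^ k)⁻¹
        = h * ((h * h) ^ k * v * ((h * h) ^ k)⁻¹) * h⁻¹ := by group
      _ = _ := by rw [hab _ (pow_mem hhh k) v hv, mul_inv_cancel_right]
  have htinv : t⁻¹ = t := inv_eq_of_mul_eq_one_right htt
  -- `c` and `t` commute modulo `W`
  clear_value t
  set u := c⁻¹ * (t * c * t⁻¹) with hu
  clear_value u
  have huW : u ∈ W := by
    refine hcent (mem_centralizer_iff.mpr fun v hv => ?_)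
    obtain ⟨x, y, v0, hv0, e1, e2, rfl⟩ := hdec v hv
    refine (mul_inv_eq_iff_eq_mul.mp ?_).symm
    have e3 := hh0 v0 e1 e2
    have hwW := hw
    have q0 : t * v0 * t⁻¹ = v0 := (htv v0 hv0).trans e3
    have q1 : t * w * t⁻¹ = w⁻¹ := (htv w hw).trans hhw
    have q2 : t * w' * t⁻¹ = w'⁻¹ := (htv w' hw'W).trans hhw'
    have r0 : c⁻¹ * v0 * c = v0 := by
      conv_lhs => rw [← e1]
      group
    have r1 : c⁻¹ * w * c = w := by
      conv_lhs => rw [← hcw]
      group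
    have r2 : c⁻¹ * w' * c = w' * w⁻¹ := by
      calc c⁻¹ * w' * c = c⁻¹ * (c * w' * c⁻¹ * (c * w * c⁻¹)⁻¹) * c := by
            rw [hcw', hcw, mul_inv_cancel_right]
        _ = _ := by group
    have key : ∀ s : G, u * s * u⁻¹ = c⁻¹ * (t * (c * (t * s * t⁻¹) * c⁻¹) * t⁻¹) * c := by
      intro s; rw [hu, mul_inv_rev, mul_inv_rev, mul_inv_rev]; simp only [inv_inv, htinv, mul_assoc]
    have s0 : u * v0 * u⁻¹ = v0 := by rw [key, q0, e1, q0, r0]
    have s1 : u * w * u⁻¹ = w := by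
      rw [key, q1]
      calc c⁻¹ * (t * (c * w⁻¹ * c⁻¹) * t⁻¹) * c
          = c⁻¹ * (t * (c * w * c⁻¹) * t⁻¹)⁻¹ * c := by group
        _ = w := by rw [hcw, q1, inv_inv, r1]
    have s2 : u * w' * u⁻¹ = w' := by
      rw [key, q2]
      calc c⁻¹ * (t * (c * w'⁻¹ * c⁻¹) * t⁻¹) * c
          = c⁻¹ * (t * (c * w' * c⁻¹) * t⁻¹)⁻¹ * c := by group
        _ = c⁻¹ * ((t * w' * t⁻¹) * (t * w * t⁻¹))⁻¹ * c := by rw [hcw']; group
        _ = c⁻¹ * w * c * (c⁻¹ * w' * c) := by rw [q1, q2]; group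
        _ = w * (w' * w⁻¹) := by rw [r1, r2]
        _ = w' := by rw [← mul_assoc, hww'.eq, mul_inv_cancel_right]
    calc u * (v0 * (w ^ x * w' ^ y)) * u⁻¹
        = (u * v0 * u⁻¹) * ((u * w * u⁻¹) ^ x * (u * w' * u⁻¹) ^ y) := by
          rw [conj_pow, conj_pow]; group
      _ = _ := by rw [s0, s1, s2]
  have htu : t * u * t⁻¹ = u⁻¹ := by
    rw [hu, mul_inv_rev, mul_inv_rev, mul_inv_rev, inv_inv, inv_inv, htinv]
    calc t * (c⁻¹ * (t * c * t)) * t = t * c⁻¹ * t * c * (t * t) := by group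
      _ = t * (c⁻¹ * t) * c := by rw [htt]; group
  set e := c * u ^ (k + 1) with he
  clear_value e
  have hte : t * e * t⁻¹ = e := by
    calc t * e * t⁻¹ = (t * c * t⁻¹) * (t * u * t⁻¹) ^ (k + 1) := by rw [he, conj_pow]; group
      _ = c * (u * (u ^ (k + 1))⁻¹) := by
          rw [htu, inv_pow, show t * c * t⁻¹ = c * u by rw [hu, mul_inv_cancel_left], mul_assoc]
      _ = e := by
          rw [he]; congr 1
          rw [mul_inv_eq_iff_eq_mul, ← pow_add, show k + 1 + (k + 1) = p + 1 by omega, pow_succ,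
            hel u huW, one_mul]
  have hep : e ^ p = c ^ p := by
    set v := u ^ (k + 1)
    have hvW : v ∈ W := pow_mem huW _
    obtain ⟨s, hs⟩ := hactc v hvW
    have hvw : Commute v w := hab v hvW w hw
    have h1 : v * c = c * (v * (w ^ s)⁻¹) := by
      have h2 : c * (v * (w ^ s)⁻¹) * c⁻¹ = v := by
        calc c * (v * (w ^ s)⁻¹) * c⁻¹ = (c * v * c⁻¹) * ((c * w * c⁻¹) ^ s)⁻¹ := by
              rw [conj_pow]; group
          _ = v := by rw [hs, hcw, mul_inv_cancel_right]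
      exact (mul_inv_eq_iff_eq_mul.mp h2).symm
    have key : ∀ N : ℕ, (c * v) ^ N = c ^ N * (v ^ N * ((w ^ s)⁻¹) ^ (N.choose 2)) := by
      intro N
      induction N with
      | zero => simp
      | succ N ih =>
        have hvN : ∀ N : ℕ, v ^ N * c = c * (v * (w ^ s)⁻¹) ^ N := by
          intro N
          induction N with
          | zero => simp
          | succ N ih => rw [pow_succ, mul_assoc, h1, ← mul_assoc, ih, pow_succ]; group
        have hwc : ((w ^ s)⁻¹) ^ (N.choose 2) * c = c * ((w ^ s)⁻¹) ^ (N.choose 2) := by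
          have : Commute c w := mul_inv_eq_iff_eq_mul.mp hcw
          exact ((this.pow_right s).inv_right.pow_right _).eq.symm
        have hcm : Commute v ((w ^ s)⁻¹) := (hvw.pow_right s).inv_right
        calc (c * v) ^ (N + 1) = c ^ N * (v ^ N * (((w ^ s)⁻¹) ^ (N.choose 2) * c)) * v := by
              rw [pow_succ, ih]; group
          _ = c ^ N * ((v ^ N * c) * ((w ^ s)⁻¹) ^ (N.choose 2)) * v := by rw [hwc]; group
          _ = c ^ N * c * ((v ^ N * ((w ^ s)⁻¹) ^ N * ((w ^ s)⁻¹) ^ (N.choose 2)) * v) := by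
              rw [hvN, hcm.mul_pow]; simp only [mul_assoc]
          _ = _ := by
              rw [← pow_succ, mul_assoc (v ^ N), ← pow_add, mul_assoc (v ^ N),
                ← (hcm.pow_right _).eq, ← mul_assoc (v ^ N), ← pow_succ,
                Nat.choose_succ_succ' N 1, Nat.choose_one_right]
    rw [he, key p]
    obtain ⟨q, hq⟩ := hpp.dvd_choose_self two_ne_zero
      (lt_of_le_of_ne hpp.two_le (Ne.symm hp))
    have hwsW : (w ^ s)⁻¹ ∈ W := inv_mem (pow_mem hw s)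
    rw [hel v hvW, hq, pow_mul, hel _ hwsW, one_pow, one_mul, mul_one]
  have hcp : c ^ p = w ^ m := by rw [hc, hwdef, ← pow_mul, ← pow_mul, mul_comm]
  have hfix : t * w ^ m * t⁻¹ = w ^ m := by rw [← hcp, ← hep, ← conj_pow, hte]
  rw [← conj_pow, (htv w hw).trans hhw] at hfix
  have h2 : w ^ (2 * m) = 1 := by
    rw [two_mul, pow_add]; nth_rw 1 [← hfix]; rw [inv_pow, inv_mul_cancel]
  rw [← orderOf_dvd_iff_pow_eq_one, hordw] at h2
  have hpm : p ∣ m := ((Nat.coprime_primes hpp Nat.prime_two).mpr hp).dvd_of_dvd_mul_left h2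
  obtain ⟨q, hq⟩ := hpm
  refine hw1 ?_
  rw [← hm, ← pow_mul, hq, show i * (p * q) = p * (i * q) by ring, pow_mul, hel w hw, one_pow]

/-- Reduced form: `O_p` is self-centralizing. -/
theorem mem_pCore_of_cyclic_normal (hcon : centralizer (Cfsg.pCore p G : Set G) ≤ Cfsg.pCore p G)
    (h : p ≠ 2 ∨ ¬ Cfsg.Involves (Equiv.Perm (Fin 4)) G) (P : Sylow p G) (A : Subgroup G)
    (hAP : A ≤ (P : Subgroup G)) (hAn : (P : Subgroup G) ≤ normalizer (A : Set G))
    (hA : IsCyclic A) : A ≤ Cfsg.pCore p G := by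
  classical
  have hpp : p.Prime := Fact.out
  set V := Cfsg.pCore p G with hV
  have hVp : IsPGroup p V := Thompson.isPGroup_pCore
  obtain ⟨⟨a0, ha0⟩, hgen⟩ := IsCyclic.exists_generator (α := A)
  by_contra hAV
  have ha0V : a0 ∉ V := fun h0 => hAV fun x hx => by
    obtain ⟨k, hk⟩ := hgen ⟨x, hx⟩
    have : a0 ^ k = x := congrArg Subtype.val hk
    exact this ▸ zpow_mem h0 k
  obtain ⟨l, hl⟩ := IsPGroup.iff_orderOf.mp (P.2.to_le hAP) ⟨a0, ha0⟩
  rw [Subgroup.orderOf_mk] at hl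
  have hex : ∃ j : ℕ, a0 ^ p ^ (j + 1) ∈ V :=
    ⟨l, by rw [pow_succ, pow_mul, ← hl, pow_orderOf_eq_one, one_pow]; exact one_mem _⟩
  set j := Nat.find hex with hj
  set a := a0 ^ p ^ j with ha
  have haV : a ∉ V := by
    rw [ha]
    rcases hcase : j with _ | i
    · rwa [pow_zero, pow_one]
    · exact Nat.find_min hex (by omega : i < Nat.find hex)
  have hapV : a ^ p ∈ V := by rw [ha, ← pow_mul, ← pow_succ]; exact Nat.find_spec hex
  have haA : a ∈ A := pow_mem ha0 _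
  have hVP : V ≤ (P : Subgroup G) := Thompson.pCore_le_sylow P
  have hVn : V.Normal := inferInstance
  have hcomm : ∀ v ∈ V, ∃ k : ℕ, a * v * a⁻¹ * v⁻¹ = (a ^ p) ^ k := by
    intro v hv
    have hxA : a * v * a⁻¹ * v⁻¹ ∈ A := by
      rw [mul_assoc a, mul_assoc a]
      refine mul_mem haA ?_
      exact ((mem_normalizer_iff.mp (hAn (hVP hv))) a⁻¹).mp (inv_mem haA)
    have hxV : a * v * a⁻¹ * v⁻¹ ∈ V := mul_mem (hVn.conj_mem v hv a) (inv_mem hv)
    obtain ⟨N, hN⟩ : ∃ N : ℕ, a0 ^ N = a * v * a⁻¹ * v⁻¹ := by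
      have := hgen ⟨_, hxA⟩
      rw [← mem_powers_iff_mem_zpowers] at this
      obtain ⟨N, hN⟩ := this
      exact ⟨N, congrArg Subtype.val hN⟩
    by_cases hdvd : p ^ (j + 1) ∣ N
    · obtain ⟨k, rfl⟩ := hdvd
      exact ⟨k, by rw [← hN, ha, ← pow_mul, ← pow_mul, pow_succ, mul_assoc]⟩
    · exfalso
      rcases Nat.eq_zero_or_pos N with rfl | hNpos
      · exact hdvd (dvd_zero _)
      obtain ⟨e, u, hu, rfl⟩ := Nat.exists_eq_pow_mul_and_not_dvd hNpos.ne' p hpp.ne_one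
      have hej : e ≤ j := by
        by_contra hlt
        exact hdvd (dvd_mul_of_dvd_left (pow_dvd_pow p (by omega)) u)
      obtain ⟨f, hf⟩ := exists_pow_eq_self_of_coprime (n := u) (x := a0 ^ p ^ e) (by
        refine Nat.Coprime.coprime_dvd_right (orderOf_pow_dvd _) ?_
        rw [hl]
        exact ((hpp.coprime_iff_not_dvd.mpr hu).pow_left l).symm)
      refine haV ?_
      obtain ⟨q, hq⟩ := pow_dvd_pow p hej
      rw [ha, hq, pow_mul, ← hf, ← pow_mul a0 (p ^ e) u, hN]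
      exact pow_mem (pow_mem hxV f) q
  -- the Frattini quotient
  set Φ : Subgroup G := (frattini V).map V.subtype with hΦ
  have hΦn : Φ.Normal := ConjAct.normal_of_characteristic_of_normal
  have hΦV : Φ ≤ V := map_subtype_le _
  let π := QuotientGroup.mk' Φ
  have hπs : Function.Surjective π := QuotientGroup.mk'_surjective Φ
  set W := V.map π with hW
  have : W.Normal := hVn.map π hπs
  have hWp : IsPGroup p W := hVp.map π
  have hπ1 : ∀ {x : G}, π x = 1 ↔ x ∈ Φ := fun {x} => QuotientGroup.eq_one_iff x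
  have hel : ∀ v ∈ W, v ^ p = 1 := by
    rintro _ ⟨v, hv, rfl⟩
    rw [← map_pow]
    exact hπ1.mpr (LocalEven62.pow_mem_frattini_map hVp hv)
  have hab : ∀ u ∈ W, ∀ v ∈ W, u * v = v * u := by
    rintro _ ⟨u, hu, rfl⟩ _ ⟨v, hv, rfl⟩
    rw [← commutatorElement_eq_one_iff_mul_comm, ← map_commutatorElement]
    exact hπ1.mpr (LocalEven62.commutator_le_frattini_map hVp (commutator_mem_commutator hu hv))
  have hcentW : centralizer (W : Set (G ⧸ Φ)) ≤ W := by
    intro x hx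
    obtain ⟨x, rfl⟩ := hπs x
    refine mem_map_of_mem π (Class49.mem_pCore_of_frattini_trivial hcon fun q hq => hπ1.mp ?_)
    rw [map_mul, map_mul, map_mul, map_inv, map_inv,
      ← mem_centralizer_iff.mp hx (π q) (mem_map_of_mem π hq), mul_inv_cancel_right, mul_inv_cancel]
  have hOW : ∀ N : Subgroup (G ⧸ Φ), N.Normal → IsPGroup p N → N ≤ W := by
    intro N hN hNp
    rw [← map_comap_eq_self_of_surjective hπs N]
    refine map_mono (Thompson.le_pCore (hN.comap π) (hNp.comap_of_ker_isPGroup π ?_))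
    rw [QuotientGroup.ker_mk']
    exact hVp.to_le hΦV
  have hπa : π a ∉ W := by
    rintro ⟨v, hv, hva⟩
    refine haV ?_
    have h1 : v⁻¹ * a ∈ Φ := QuotientGroup.eq.mp hva
    simpa using mul_mem hv (hΦV h1)
  have hπap : (π a) ^ p ∈ W := by rw [← map_pow]; exact mem_map_of_mem π hapV
  have hact : ∀ v ∈ W, ∃ k : ℕ, π a * v * (π a)⁻¹ = v * ((π a) ^ p) ^ k := by
    rintro _ ⟨v, hv, rfl⟩
    obtain ⟨k, hk⟩ := hcomm v hv
    refine ⟨k, ?_⟩
    have hk' := congrArg π hk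
    simp only [map_mul, map_inv, map_pow] at hk'
    rw [mul_inv_eq_iff_eq_mul] at hk'
    rw [hk', hab _ (pow_mem hπap k) _ (mem_map_of_mem π hv)]
  by_cases hp2 : p = 2
  · subst hp2
    have hS4 := h.resolve_left (fun h => h rfl)
    refine hS4 ?_
    have hC : centralizer (W : Set (G ⧸ Φ)) = W :=
      le_antisymm hcentW fun x hx => mem_centralizer_iff.mpr fun v hv => hab v hv x hx
    have hinv : Cfsg.Involves (Equiv.Perm (Fin 4)) (G ⧸ Φ) := by
      refine LocalEven62.involves_of_transvection W hWp ⟨⟨fun u v => Subtype.ext (hab _ u.2 _ v.2)⟩⟩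
        ?_ (a := π a) (fun h1 => hπa (hcentW h1)) ?_
      · intro N hN hNp
        rw [eq_bot_iff]
        intro x hx
        obtain ⟨y, rfl⟩ := QuotientGroup.mk'_surjective _ x
        rw [Subgroup.mem_bot]
        refine (QuotientGroup.eq_one_iff y).mpr ?_
        rw [hC]
        refine hOW (N.comap (QuotientGroup.mk' _)) (hN.comap _) (hNp.comap_of_ker_isPGroup _ ?_) hx
        rw [QuotientGroup.ker_mk', hC]; exact hWp
      · intro u hu v hv hau hav
        obtain ⟨k, hk⟩ := hact u hu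
        obtain ⟨k', hk'⟩ := hact v hv
        set w := (π a) ^ 2 with hw
        have hww : w * w = 1 := by rw [← pow_two]; exact hel w hπap
        have hodd : ∀ (s : G ⧸ Φ) (k : ℕ), π a * s * (π a)⁻¹ = s * w ^ k → ¬ Commute (π a) s →
            w ^ k = w := by
          intro s k hs hns
          rcases Nat.even_or_odd k with ⟨r, rfl⟩ | ⟨r, rfl⟩
          · refine absurd (mul_inv_eq_iff_eq_mul.mp ?_) hns
            rw [hs, ← two_mul, pow_mul, pow_two, hww, one_pow, mul_one]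
          · rw [pow_succ, pow_mul, pow_two, hww, one_pow, one_mul]
        refine mul_inv_eq_iff_eq_mul.mp ?_
        rw [hodd u k hk hau] at hk
        rw [hodd v k' hk' hav] at hk'
        calc π a * (u * v) * (π a)⁻¹ = (π a * u * (π a)⁻¹) * (π a * v * (π a)⁻¹) := by group
          _ = u * (w * v) * w := by rw [hk, hk']; group
          _ = u * v * (w * w) := by rw [hab w hπap v hv]; group
          _ = u * v := by rw [hww, mul_one]
    obtain ⟨K, R, hn, ⟨e⟩⟩ := hinv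
    haveI := hn
    haveI hn2 : ((R.comap π).subgroupOf (K.comap π)).Normal :=
      show ((R.subgroupOf K).comap (π.subgroupComap K)).Normal from hn.comap _
    refine ⟨K.comap π, R.comap π, hn2, ⟨?_⟩⟩
    · let f : ↥(K.comap π) →* ↥K ⧸ R.subgroupOf K := (QuotientGroup.mk' _).comp (π.subgroupComap K)
      have hf : Function.Surjective f := (QuotientGroup.mk'_surjective _).comp
        (MonoidHom.subgroupComap_surjective_of_surjective π K hπs)
      refine ((QuotientGroup.quotientMulEquivOfEq ?_).trans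
        (QuotientGroup.quotientKerEquivOfSurjective f hf)).trans e
      rw [← MonoidHom.comap_ker, QuotientGroup.ker_mk']
      rfl
  · exact odd_core hp2 W hel hab hcentW hOW hπa hπap hact

end Cfsg.Agent.CyclicNormalSylow
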